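import Cfsg.Agent.Lib.Helper28.TCCheck
import Cfsg.Agent.Lib.Helper56.RuA.Pres

set_option autoImplicit false
set_option linter.unusedVariables false

namespace Cfsg.Agent.Lib.Helper56.RuA

open Cfsg.Agent.Lib.Helper28.TC

noncomputable section

def hotA_c0 : ℕ := 0x0
def hotA : ℕ := hotA_c0
def coldA_c0 : ℕ := 0x0
def coldA : ℕ := coldA_c0
def treeT_c0 : ℕ := 0xee1cfb070ea1b7a06be63ab9067e219780e4de18b7060da37f605dd6373515bd21674057ce35b3054ca34f2152c614310cfc213700ccbe52ef04aba326e148b671ed045b2312c042ae306b140aa0fea0bea64f691bca20ea80b99e4e270379a2da6135966d250b3924ca41b18e0c6302f8a2ba212d860b210ab824aa01a97e2a1f1277a699e02676095d0a47248dc1a26e285b1206a67da01f66479919d62275801c5e26d711a5a66560985645d51965205941154e65130944a24d211246645101142441018f3e23cf18e3a438e08d36430d18b3202cc10a2e624b0892a620a1082641c91862221881851e41470051a41061831620c51821240840020e60431010a2042180064001080020000000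
def treeT : ℕ := treeT_c0
def rowT_c0 : ℕ := 0xefdbaf4e7cb8f0dfbb6ecd7ab4e8cf9b2e4c78b0e0bf7aedcb76acd8af5aad4a74a8d09f3a6cc972a4c88f1a2c4870a0c07ef9ebc76e9cb86ed9ab466c98b05eb96ac56a94a84e992a446890a03e78e9c3668c982e58a9426488901e3868c16284880e182840608080
def rowT : ℕ := rowT_c0

end

end Cfsg.Agent.Lib.Helper56.RuA
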