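import Cfsg.Agent.Lib.Helper28.TCCheck
import Cfsg.Agent.Lib.Helper56.RuA.Pres

set_option autoImplicit false
set_option linter.unusedVariables false

namespace Cfsg.Agent.Lib.Helper56.RuA

open Cfsg.Agent.Lib.Helper28.TC

noncomputable section

def hotE0_c0 : ℕ := 0xecf4e9f1e6eee3ecec78dde8dbe6e977d6e3d3e1e676cedee375caddc6dac3d8dd73bed5db72bbd4b8d1d670b4ced36fb0cdabcbce6dca6ba5c9a2c6c66a9fc3c3699bc297c0be67bb6592be8ebbb8648bba88b8b462b06083b6ab5f7fb7a55c78b276b0a25b73af70ad9f599b576bab975668ac925362a760a68e528b505ba4884f7f4a834c52a051a24fa178484b9d76477345479b7044683f6b413e973d993b98623d603c379c5b39319251344f3352352b9129904b313725472e228c3d293b283e2a1d8b1b8a198e178d31232b1f291e108619141713221a1d161b15098308850684100f08080607090900810002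
def hotE0 : ℕ := hotE0_c0
def coldE0_c0 : ℕ := 0x1ce0001c20001b60001ae00000000019e00019600000000018a00018200000000017600000000017200016600015e00000000015200000000014e00014200000000013600000000013200012a00000090061f00012200011600000000010a0000000001060000fe0000007a061f0000f60000ea0000000000e60000de0000006a061f0000d60000000000da6206230000c60000be0000000000ba0000b200000054061f0000aa0000000000ae4c062300009a00009600000046061f00008e00000040061f3e062300007e00008600008200000000007200000034061f00006a0000002e061f2c062300005a00006200005e00000000000000006e22062300004620061f1e062300000000004200003e00000018061f16062300002e14061f12062300000000002a0000260000360000320000000a06230a061f00001608061f06062300000004062304061f00000a00001200000e00000000062300061f000000000002000000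
def coldE0 : ℕ := coldE0_c0
def tfT0_c0 : ℕ := 0xe7c36ebef9f2f6c583adde972cd7e5538d3a1be6ee992b66a91174c2d105fe6c8f5d6372df0df6b79b5b62bed2e5962b2aaaae9264b467a39d2659f428239c8d10d437d00b182ef1d9b70459b268407b048b45a84ea45091a3111e3a149923254a02080c7070c20001
def tfT0 : ℕ := tfT0_c0

end

end Cfsg.Agent.Lib.Helper56.RuA
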