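import Cfsg.Agent.Lib.Helper28.TCCheck
import Cfsg.Agent.Lib.Helper56.RuA.Pres

set_option autoImplicit false
set_option linter.unusedVariables false

namespace Cfsg.Agent.Lib.Helper56.RuA

open Cfsg.Agent.Lib.Helper28.TC

noncomputable section

def hotE1_c0 : ℕ := 0xedf5eaf2e7efed78e0ebdee9ea77d9e5d7e4e776d1e0cfe2cbdde074c7dbde73c1d7bfd9bcd4d971d770b6d0cf6db1cdd16eaccfa9cacb6ca6ccc76aa1c5bf679cc2c16898c495bfbc6693c18fc78cbab663ac5f86b7b161a65c80b4a95e7cb379b58f5274afa15a98566eac9c58935369a9955565a863aa61b15ea58c515cae58a2864e55a17948804b7c494c9e613c499c74465c3944996e434198633d6940653e399538945e3b3493329a583855362d902c964c32278e4930248d3223442d412b1e8a2c1f392738263424158714882d201189271d241b0d840c851e17110f1411151204820c0b0d0c018104060103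
def hotE1 : ℕ := hotE1_c0
def coldE1_c0 : ℕ := 0x1d20001c60001bae604130001aa0001a2e0041300019200018eda041300017e00018600017200000000016ace041300015a00016200014e000000c4041300013eba041300013200000000013a00012600000000012eb20413000112a8041300010600000000010e0000fa00000000010200011a0000e60000009404130000da0000006806270000ce0000000000ca0000d27404130000ba0000007e04130000ae0000005206270000a200000000009e0000a60000c20000920000000000b60000860000000000826204130000003a06270000764a041300006e00000032062700006200000000005e4c041300000028062700005200004e00000000004a0000660000001e062700003e0000560000000000360000000000322204130000001206270000261006270000000000000c062700001a00001e00000000002200000006062700000e0000120000000a0413020627000000000006000627000000000002000000000000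
def coldE1 : ℕ := coldE1_c0
def tfT1_c0 : ℕ := 0xe9c7777d5a3b64c7d6fe1b9ced72ad629f0df3f64cdb3a4eb97a6266839e1becb02339c579b60b6ceeb26945759aaaebd251513a9609282d43350479520ebb3715c18845de3f7a509ba2465bb51e5588d5e3112c5424f264a8c3073e20e1a0610b0e204408a1600282
def tfT1 : ℕ := tfT1_c0

end

end Cfsg.Agent.Lib.Helper56.RuA
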