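import Cfsg.Agent.Lib.Helper28.TCCheck
import Cfsg.Agent.Lib.Helper56.RuA.Pres

set_option autoImplicit false
set_option linter.unusedVariables false

namespace Cfsg.Agent.Lib.Helper56.RuA

open Cfsg.Agent.Lib.Helper28.TC

noncomputable section

def hotE2_c0 : ℕ := 0xeef6ebf3ee78e4ede1eeeb77dce7dae8d8ead4e2e174e475ccdec8dcd870c4d9da71dc72bdd5bad3b9d2b7dad46fb2ceaeccadd6cc6ca7c9c86ba3c7b763c4699dc399c1ad5fbd6694beba65b9648dbb8ab989bcb26184b6ae6081c07db3a75d7abda35b75b072ae71b19d586cab9957814b66a894547a48894f8d515da48a5059a656a1844d53a3509f7d4a4da771447546489b7245459d42986c423f9a3c96663f4d32593835935d3a5335309156372e925034288f452d258d482f3f2a218b422c1f8c3c291a89188835252e2030221286281e0f85251c1f1721190a831a151814058212100f0e02810a0a05070204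
def hotE2 : ℕ := hotE2_c0
def coldE2_c0 : ℕ := 0x1d60001cae6041f0001b20001b6e0041f00019a00019e0001a6000186d40417d6041f00017600016ec4041f000162c80417ca041f00015200014a000146000166c0041f00013600012e000156b8041700012200000000011a9e0417ae041f00010a00010294041fa604170000f6000000a0041f0000ea0000e20000ee9804170000d60000000000fe0000ca0000000000f28a041f0000be0000b60000c28204170000aa00000066041700009e00000062041f6e041f72041700008e00000000009600008200000000008a00007a00000000009a58041f5c041700006a00000000007200005e0000000000660000560000003a041742041700004a0000003e041f00004200000000004600000000003a3004170000320000002c041f00002a00000000002e00000000002200001e0000001e041700000000001600000000001200000012041700000000000a000000000000000006000000000000000002000000000000000000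
def coldE2 : ℕ := coldE2_c0
def tfT2_c0 : ℕ := 0xebcbbecdbdb367d3879f4bb6f7d8e1c6a52a36774d97575c8d51b1688502f657b931ba70ef035befd95c79697ad615d556949e9c79d411cf4a826223d253438a6a21c2f04c957cc5b9272d083622cc72c18b948a562d4080e90fa10a7421b2c60114260478d0024303
def tfT2 : ℕ := tfT2_c0

end

end Cfsg.Agent.Lib.Helper56.RuA
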