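import Cfsg.Agent.Lib.Helper28.TCCheck
import Cfsg.Agent.Lib.Helper56.RuA.Pres

set_option autoImplicit false
set_option linter.unusedVariables false

namespace Cfsg.Agent.Lib.Helper56.RuA

open Cfsg.Agent.Lib.Helper28.TC

noncomputable section

def hotE3_c0 : ℕ := 0xeff7ef78e8f0e5f2e2f1dfeae575e274e876d5e4d2e3d0dfcde6c9e5df73c5dbc2dac0d6cd6cc96bd56fd26eb5cfb3d1afd0d06daacba8d4a4c8c569c268a0c49ec69ac5c06796c0a85d91bd90bcb361af60b56287b885ba82b5aa5e7eb47bb2a45c77b19e589a57a0596fad6daf6aaa965567a964a7915390525fa6854d5aa3874e57a254a0824c7e4a4e9e7b4977474a9d6d42469a6f43439940976a41673f3a95643e5f3b369433925a3957372f9054362a8f4e334a30268e238c462e432c208a402b1c893a2836251687332413862f212a1f261c0e84231b0b8320181c1607821613131103810e0d0b0b07080305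
def hotE3 : ℕ := hotE3_c0
def coldE3_c0 : ℕ := 0x1dae604230001be0001c60001c20001a6d60423d40427da042300018e00018a00017a000196000192ce042300016a000166000156b80427b6041bc00423be042700013a00014200013eba042300012a00014e00011eae0423ac042700010e000116000112a804230000fe90041b0000f20000ee98042796041b9a04230000de0000e60000d29204270000ce0000c60000000000c282042780041b8404230000b20000ba0000a67c04270000a200009a0000007404230000966a041b00008a6c042700008600007e00000064041b0000760000005e042300007254041b00006656042700006200005a0000004e041b00005200000048042700004e00004600000040041b00003e00000000003a00000036042700003600002e0000002e041b00002600000000002200000024041b00001a00000000001600000000000018041b00000e00000000000a000000000000000006000000000000000002000000000000000000000000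
def coldE3 : ℕ := coldE3_c0
def tfT3_c0 : ℕ := 0xeddf7f1e1a7a73eb8f15ecb9395ab3575eaddb67509fb25538fa33c38b1333fb8f1de0bf85bb969759b1b6c2bd6b0b1729a8a1352a2966229a84fcb92764463904cc2305a03e28f5d1322e1b0f6a3992f1a2d6ab12a842748191854078d833408b9502488001828384
def tfT3 : ℕ := tfT3_c0

end

end Cfsg.Agent.Lib.Helper56.RuA
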